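import Groth.Agent.S1688
import Groth.Agent.MiscFlat6.FreeStalks
import Groth.Agent.QCohLib.Coherent

/-!
# Stalkwise projective modules over a locally free sheaf of algebras
-/

set_option autoImplicit false
set_option linter.style.haveILetI false
set_option maxHeartbeats 800000
set_option backward.isDefEq.respectTransparency false
universe u

open CategoryTheory CategoryTheory.Limits AlgebraicGeometry TopologicalSpace Opposite

noncomputable section

namespace OrdProjLib

variable {X : Scheme.{u}} {A : Sheaf (Opens.grothendieckTopology X) RingCat.{u}} (φ : X.ringCatSheaf ⟶ A)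

/-- The restriction of a module to the structure sheaf. -/
abbrev res (M : SheafOfModules.{u} A) : X.Modules := (SheafOfModules.restrictScalars φ).obj M

/-- The stalk of the sheaf of algebras. -/
abbrev Ax (x : X) : Type u := ↑(TopCat.Presheaf.stalk (C := RingCat.{u}) (X := X.carrier) A.obj x)

/-- The stalk of a module. -/
abbrev Mx (M : SheafOfModules.{u} A) (x : X) : Type u :=
  ↑(TopCat.Presheaf.stalk (C := Ab.{u}) (X := X.carrier) M.val.presheaf x)

abbrev gr (M : SheafOfModules.{u} A) {U : X.Opens} {x : X} (hx : x ∈ U) (v : M.val.obj (op U)) : Mx M x :=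
  TopCat.Presheaf.germ (C := Ab.{u}) M.val.presheaf U x hx v

abbrev ga {U : X.Opens} {x : X} (hx : x ∈ U) (a : A.obj.obj (op U)) : Ax (A := A) x :=
  TopCat.Presheaf.germ (C := RingCat.{u}) (X := X.carrier) A.obj U x hx a

/-- Scalars from the structure sheaf act through the algebra. -/
theorem smul_eq (M : SheafOfModules.{u} A) {x : X} (r : X.presheaf.stalk x) :
    ∀ v : (res φ M).presheaf.stalk x, ∀ (U : X.Opens) (hx : x ∈ U) (r₀ : Γ(X, U)),
      X.presheaf.germ U x hx r₀ = r →
      (show Mx M x from r • v) = ga hx (φ.hom.app (op U) r₀) • (show Mx M x from v) := by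
  intro v U hx r₀ hr
  obtain ⟨V, hxV, v₀, rfl⟩ := (res φ M).presheaf.germ_exist v
  subst hr
  have hW : x ∈ U ⊓ V := ⟨hx, hxV⟩
  have h1 : X.presheaf.germ U x hx r₀ =
      X.presheaf.germ (U ⊓ V) x hW (X.presheaf.map (homOfLE inf_le_left).op r₀) :=
    (TopCat.Presheaf.germ_res_apply X.presheaf _ x hW r₀).symm
  have h2 : (res φ M).presheaf.germ V x hxV v₀ =
      (res φ M).presheaf.germ (U ⊓ V) x hW ((res φ M).presheaf.map (homOfLE inf_le_right).op v₀) :=
    (TopCat.Presheaf.germ_res_apply (res φ M).presheaf _ x hW v₀).symm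
  have h3 : (ga hx (φ.hom.app (op U) r₀) : Ax (A := A) x) =
      ga hW (φ.hom.app (op (U ⊓ V)) (X.presheaf.map (homOfLE inf_le_left).op r₀)) := by
    refine (TopCat.Presheaf.germ_res_apply A.obj (homOfLE (inf_le_left : U ⊓ V ≤ U)) x hW _).symm.trans ?_
    exact congrArg _ (congr($(φ.hom.naturality (homOfLE (inf_le_left : U ⊓ V ≤ U)).op) r₀)).symm
  rw [h1, h2, h3]
  refine Eq.trans (PresheafOfModules.germ_smul (R := X.presheaf) (res φ M).val x (U ⊓ V) hW _ _).symm ?_
  exact PresheafOfModules.germ_ringCat_smul (R := A.obj) M.val x (U ⊓ V) hW _ _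

/-- A linear map over the algebra is linear over the structure sheaf. -/
theorem map_smul_of_linear {M N : SheafOfModules.{u} A} {x : X} (f : Mx M x →ₗ[Ax (A := A) x] Mx N x)
    (r : X.presheaf.stalk x) (v : (res φ M).presheaf.stalk x) :
    f (show Mx M x from r • v) = (show Mx N x from r • (show (res φ N).presheaf.stalk x from f v)) := by
  obtain ⟨U, hx, r₀, hr⟩ := X.presheaf.germ_exist r
  rw [smul_eq φ M r v U hx r₀ hr, smul_eq φ N r _ U hx r₀ hr]
  exact f.map_smul _ _

abbrev one : SheafOfModules.{u} A := SheafOfModules.unit A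

/-- The unit germ generates the stalk of the unit module. -/
theorem unit_bijective (x : X) :
    Function.Bijective fun a : Ax (A := A) x =>
      a • gr (one (A := A)) (show x ∈ (⊤ : X.Opens) from trivial) (1 : A.obj.obj (op ⊤)) := by
  have key : ∀ (U : X.Opens) (hx : x ∈ U) (a : A.obj.obj (op U)),
      ga hx a • gr (one (A := A)) (show x ∈ (⊤ : X.Opens) from trivial) (1 : A.obj.obj (op ⊤)) =
        gr (one (A := A)) hx a := by
    intro U hx a
    have h1 : gr (one (A := A)) (show x ∈ (⊤ : X.Opens) from trivial) (1 : A.obj.obj (op ⊤)) =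
        gr (one (A := A)) hx (1 : A.obj.obj (op U)) := by
      refine (TopCat.Presheaf.germ_res_apply (one (A := A)).val.presheaf (homOfLE (le_top : U ≤ ⊤)) x hx _).symm.trans ?_
      exact congrArg _ (map_one (A.obj.map (homOfLE (le_top : U ≤ ⊤)).op).hom)
    rw [h1]
    refine (PresheafOfModules.germ_ringCat_smul (R := A.obj) (one (A := A)).val x U hx a _).symm.trans ?_
    exact congrArg _ (mul_one a)
  refine ⟨fun a b h => ?_, fun v => ?_⟩
  · obtain ⟨U, hxU, a, rfl⟩ := TopCat.Presheaf.germ_exist (C := RingCat.{u}) A.obj a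
    obtain ⟨V, hxV, b, rfl⟩ := TopCat.Presheaf.germ_exist (C := RingCat.{u}) A.obj b
    have h1 := ((key U hxU a).symm.trans h).trans (key V hxV b)
    obtain ⟨W, hxW, i₁, i₂, hW⟩ :=
      TopCat.Presheaf.germ_eq (C := Ab.{u}) (one (A := A)).val.presheaf x hxU hxV a b h1
    calc ga hxU a = ga hxW (A.obj.map i₁.op a) := (TopCat.Presheaf.germ_res_apply A.obj i₁ x hxW a).symm
      _ = ga hxW (A.obj.map i₂.op b) := congrArg _ hW
      _ = ga hxV b := TopCat.Presheaf.germ_res_apply A.obj i₂ x hxW b
  · obtain ⟨U, hxU, a, rfl⟩ := TopCat.Presheaf.germ_exist (C := Ab.{u}) (one (A := A)).val.presheaf v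
    exact ⟨ga hxU a, key U hxU a⟩

/-- A projective stalk over the algebra is projective over the structure sheaf. -/
theorem projective_stalk (hA : FlatMod.IsFinLocFree (res φ (one (A := A)))) (M : SheafOfModules.{u} A)
    (x : X) (hM : Module.Projective (Ax (A := A) x) (Mx M x)) :
    Module.Projective (X.presheaf.stalk x) ((res φ M).presheaf.stalk x) := by
  classical
  let R := X.presheaf.stalk x
  let A₁ := Mx (one (A := A)) x
  let P := (res φ (one (A := A))).presheaf.stalk x
  let N := (res φ M).presheaf.stalk x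
  haveI : Module.Free R P := MiscFlat6.free_stalk_of_isFinLocFree hA x
  let T : Ax (A := A) x ≃ₗ[Ax (A := A) x] A₁ :=
    LinearEquiv.ofBijective (LinearMap.toSpanSingleton (Ax (A := A) x) A₁ _) (unit_bijective x)
  let q : (Mx M x →₀ A₁) →ₗ[Ax (A := A) x] Mx M x :=
    (Finsupp.linearCombination (Ax (A := A) x) (id : Mx M x → Mx M x)).comp
      (Finsupp.mapRange.linearMap T.symm.toLinearMap)
  have hq : Function.Surjective q := fun m => ⟨Finsupp.single m (T 1), by simp [q]⟩
  obtain ⟨s, hs⟩ := Module.projective_lifting_property q LinearMap.id hq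
  haveI : Module.Projective R (Mx M x →₀ P) := inferInstance
  let q' : (Mx M x →₀ P) →ₗ[R] N :=
    { toFun := fun v => (show N from q (show Mx M x →₀ A₁ from v))
      map_add' := fun v w => q.map_add _ _
      map_smul' := fun r v => by
        obtain ⟨U, hx, r₀, hr⟩ := X.presheaf.germ_exist r
        have h1 : (show Mx M x →₀ A₁ from r • v) = ga hx (φ.hom.app (op U) r₀) • (show Mx M x →₀ A₁ from v) :=
          Finsupp.ext fun m => smul_eq φ _ r (v m) U hx r₀ hr
        change (show N from q _) = r • (show N from q _)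
        rw [h1, q.map_smul]
        exact (smul_eq φ M r _ U hx r₀ hr).symm }
  let s' : N →ₗ[R] (Mx M x →₀ P) :=
    { toFun := fun v => (show Mx M x →₀ P from s (show Mx M x from v))
      map_add' := fun v w => s.map_add _ _
      map_smul' := fun r v => by
        obtain ⟨U, hx, r₀, hr⟩ := X.presheaf.germ_exist r
        refine Finsupp.ext fun m => ?_
        have h1 : s (show Mx M x from r • v) = ga hx (φ.hom.app (op U) r₀) • s (show Mx M x from v) := by
          rw [← s.map_smul]
          exact congrArg s (smul_eq φ M r v U hx r₀ hr)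
        exact (congrArg (fun z : Mx M x →₀ A₁ => z m) h1).trans (smul_eq φ _ r _ U hx r₀ hr).symm }
  exact Module.Projective.of_split s' q' (LinearMap.ext fun v => LinearMap.congr_fun hs v)

theorem isFinLocFree [IsLocallyNoetherian X] (hA : FlatMod.IsFinLocFree (res φ (one (A := A))))
    (M : SheafOfModules.{u} A) (hMc : Coh.IsCoh (res φ M))
    (hMp : ∀ x : X, Module.Projective (Ax (A := A) x) (Mx M x)) : FlatMod.IsFinLocFree (res φ M) := by
  haveI : Coh.IsQCoh (res φ M) := hMc.1
  refine Groth.Agent.S1688.isFinLocFree_of_isFP_of_flat (QCohLib.isFP_of_isCoh _ hMc) fun x => ?_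
  haveI := projective_stalk φ hA M x (hMp x)
  show Module.Flat (X.presheaf.stalk x) ((res φ M).presheaf.stalk x)
  infer_instance

end OrdProjLib
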